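import Cfsg.Agent.Lib.Helper92.TCert7

/-! Coset-enumeration certificate `Q` for the presented group (helper92): packed rows, rotations, kernel checks. -/

set_option autoImplicit false

namespace Cfsg.Agent.Lib.Helper92.PM.Q
open Cfsg.Agent.Lib.Helper92.TCert

/-- packed rows 0–63 -/
noncomputable def lf0 : ℕ := 0x800054000400000220000b000080000402000000000000000000000000000000000000000000000000000000000000000000000000000000008000340001000e700003c0003000000000000000000000380008800008000102000000000000000000000000000000000000000000000000bb0000200003000000000000000000e900001c0005000008000180001000e500002400020000002800058000040001020000000000000000000000000000000000000000000000000080001400000000000000000000000080001c0006000000000000000000000000000000008000680006000070000001000000000000000000000000000000000000000000000000c700004c0004000008000100000000cd00005c000400051000050000400000400054000800000180000c00000c0000010000000000000000000000000000000000000000000000000080002000060000000000000000000080000c00000000080003c00070003d0000380007000000e00008000028000001000000000000000000000000000000000000000000000000000000000000000000000000000000000000000000000008000080000000008000240006000000800005000024000001000000000000000000000000000000000000000000000000000000000000000000000000000000004000340007000004000180006000008000040000000002b000090000000000010000000000000000000000000000000000000000000000000040001400050000040001000040000040000c0003000004000080002000004000040001000000000000000000000000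

/-- all rows -/
noncomputable def trie : T16 :=
  (.leaf lf0)

/-- the rotations of the relators: first letter, number of further letters, further letters -/
noncomputable def rotT : T16 :=
  (.node (.node (.leaf 8) (.leaf 9271675465) (.leaf 33304) (.leaf 299652421390704) (.leaf 198299396508530) (.leaf 1151869324377) (.leaf 72731) (.leaf 2785488946283) (.leaf 0) (.leaf 0) (.leaf 0) (.leaf 0) (.leaf 0) (.leaf 0) (.leaf 0) (.leaf 0)) (.node (.leaf 8) (.leaf 5453926730) (.leaf 4122) (.leaf 37456552673905) (.leaf 306262401274227) (.leaf 418861572444) (.leaf 58140) (.leaf 53124744251500) (.leaf 0) (.leaf 0) (.leaf 0) (.leaf 0) (.leaf 0) (.leaf 0) (.leaf 0) (.leaf 0)) (.node (.leaf 265) (.leaf 9271675465) (.leaf 49944) (.leaf 145419557439602) (.leaf 460495265225329) (.leaf 1151869324377) (.leaf 72731) (.leaf 69912) (.leaf 0) (.leaf 0) (.leaf 0) (.leaf 0) (.leaf 0) (.leaf 0) (.leaf 0) (.leaf 0)) (.node (.leaf 265) (.leaf 5453926730) (.leaf 6171) (.leaf 299652421390704) (.leaf 198299396508530) (.leaf 418861572444) (.leaf 58140) (.leaf 8729) (.leaf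 0) (.leaf 0) (.leaf 0) (.leaf 0) (.leaf 0) (.leaf 0) (.leaf 0) (.leaf 0)) (.node (.leaf 522) (.leaf 9271675465) (.leaf 49944) (.leaf 37456552673905) (.leaf 306262401274227) (.leaf 1151869324377) (.leaf 77009337209192) (.leaf 17434) (.leaf 0) (.leaf 0) (.leaf 0) (.leaf 0) (.leaf 0) (.leaf 0) (.leaf 0) (.leaf 0)) (.node (.leaf 522) (.leaf 5453926730) (.leaf 6171) (.leaf 145419557439602) (.leaf 460495265225329) (.leaf 418861572444) (.leaf 9626167151209) (.leaf 34844) (.leaf 0) (.leaf 0) (.leaf 0) (.leaf 0) (.leaf 0) (.leaf 0) (.leaf 0) (.leaf 0)) (.node (.leaf 779) (.leaf 9271675465) (.leaf 51993) (.leaf 299652421390704) (.leaf 198299396508530) (.leaf 1151869324377) (.leaf 18795456938346) (.leaf 0) (.leaf 0) (.leaf 0) (.leaf 0) (.leaf 0) (.leaf 0) (.leaf 0) (.leaf 0) (.leaf 0)) (.node (.leaf 779) (.leaf 5453926730) (.leaf 22811) (.leaf 37456552673905) (.leaf 306262401274227) (.leaf 418861572444) (.leaf 37533804206185) (.leaf 0) (.leaf 0) (.leaf 0) (.leaf 0) (.leaf 0) (.leaf 0) (.leaf 0) (.leaf 0) (.leaf 0)) (.node (.leaf 1065256) (.leaf 3461930)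 (.leaf 51993) (.leaf 145419557439602) (.leaf 1036) (.leaf 1151869324377) (.leaf 22283911570280) (.leaf 0) (.leaf 0) (.leaf 0) (.leaf 0) (.leaf 0) (.leaf 0) (.leaf 0) (.leaf 0) (.leaf 0)) (.node (.leaf 133161) (.leaf 2529835) (.leaf 22811) (.leaf 460495265225329) (.leaf 1036) (.leaf 418861572444) (.leaf 2785488946283) (.leaf 0) (.leaf 0) (.leaf 0) (.leaf 0) (.leaf 0) (.leaf 0) (.leaf 0) (.leaf 0) (.leaf 0)) (.node (.leaf 1065256) (.leaf 3461930) (.leaf 299652421390704) (.leaf 198299396508530) (.leaf 4260904) (.leaf 1151869324377) (.leaf 53124744251500) (.leaf 0) (.leaf 0) (.leaf 0) (.leaf 0) (.leaf 0) (.leaf 0) (.leaf 0) (.leaf 0) (.leaf 0)) (.node (.leaf 133161) (.leaf 2529835) (.leaf 37456552673905) (.leaf 306262401274227) (.leaf 532524) (.leaf 418861572444) (.leaf 77009337209192) (.leaf 0) (.leaf 0) (.leaf 0) (.leaf 0) (.leaf 0) (.leaf 0) (.leaf 0) (.leaf 0) (.leaf 0)) (.node (.leaf 1065256) (.leaf 3461930) (.leaf 145419557439602) (.leaf 460495265225329) (.leaf 4260904) (.leaf 70682) (.leaf 9626167151209) (.leaf 0) (.leaf 0) (.leaf 0) (.leaf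 0) (.leaf 0) (.leaf 0) (.leaf 0) (.leaf 0) (.leaf 0)) (.node (.leaf 133161) (.leaf 2529835) (.leaf 299652421390704) (.leaf 198299396508530) (.leaf 532524) (.leaf 41500) (.leaf 18795456938346) (.leaf 0) (.leaf 0) (.leaf 0) (.leaf 0) (.leaf 0) (.leaf 0) (.leaf 0) (.leaf 0) (.leaf 0)) (.node (.leaf 9271675465) (.leaf 33304) (.leaf 37456552673905) (.leaf 306262401274227) (.leaf 4260904) (.leaf 70682) (.leaf 37533804206185) (.leaf 0) (.leaf 0) (.leaf 0) (.leaf 0) (.leaf 0) (.leaf 0) (.leaf 0) (.leaf 0) (.leaf 0)) (.node (.leaf 5453926730) (.leaf 4122) (.leaf 145419557439602) (.leaf 460495265225329) (.leaf 532524) (.leaf 41500) (.leaf 22283911570280) (.leaf 0) (.leaf 0) (.leaf 0) (.leaf 0) (.leaf 0) (.leaf 0) (.leaf 0) (.leaf 0) (.leaf 0)))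

/-- number of nodes -/
def nN : ℕ := 9
/-- number of cosets -/
def nC : ℕ := 1
/-- number of rotations -/
def nR : ℕ := 118

/-- the row of a node -/
noncomputable def row (u : ℕ) : ℕ := rowOf trie nN u
/-- the rotation code -/
noncomputable def rot (i : ℕ) : ℕ := rotT.get i

set_option maxRecDepth 1000000 in
theorem chk_0 : loopB (fun u => band (chkNode row rot 8 nR 0 u) (chkFinG row 8 nC 1048575 5 u)) 1 0 = true := by
  decide +kernel

set_option maxRecDepth 1000000 in
theorem chk_1 : loopB (chkNode row rot 8 nR 0) 8 1 = true := by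
  decide +kernel

theorem chk_nodes (u : ℕ) (hu : u < nN) : chkNode row rot 8 nR 0 u = true := by
  have hu' : u < 9 := hu
  by_cases h0 : u < 1
  · have := loopB_spec _ _ _ chk_0 u (by omega) (by omega)
    rw [band_eq, Bool.and_eq_true] at this
    exact this.1
  by_cases h1 : u < 9
  · exact loopB_spec _ _ _ chk_1 u (by omega) (by omega)
  omega

theorem chk_fin (c : ℕ) (hc : c < nC) : chkFinG row 8 nC 1048575 5 c = true := by
  have hc' : c < 1 := hc
  by_cases h0 : c < 1
  · have := loopB_spec _ _ _ chk_0 c (by omega) (by omega)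
    rw [band_eq, Bool.and_eq_true] at this
    exact this.2
  omega

set_option maxRecDepth 100000 in
theorem dp0 : fDp (row 0) = 0 := by decide +kernel

end Cfsg.Agent.Lib.Helper92.PM.Q
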