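import Cfsg.Agent.Lib.Helper92.VecPerm4

/-! Benes networks of the five involutions generating The Mathieu group M11 on 11 points (helper92). -/

set_option autoImplicit false

namespace Cfsg.Agent.Lib.Helper92.PM
open Cfsg.Agent.Lib.Helper92.VecPerm

/-- stages `(stride, mask)` of the network of letter 0 -/
def net0 : List (ℕ × ℕ) := [
  (8, 0x42),
  (4, 0x0),
  (2, 0x20),
  (1, 0x15),
  (2, 0x20),
  (4, 0x400),
  (8, 0x42)]

/-- stages `(stride, mask)` of the network of letter 1 -/
def net1 : List (ℕ × ℕ) := [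
  (8, 0x0),
  (4, 0x0),
  (2, 0x202),
  (1, 0x401),
  (2, 0x222),
  (4, 0x4),
  (8, 0x0)]

/-- stages `(stride, mask)` of the network of letter 2 -/
def net2 : List (ℕ × ℕ) := [
  (8, 0x22),
  (4, 0x8),
  (2, 0x20),
  (1, 0x15),
  (2, 0x20),
  (4, 0x208),
  (8, 0x22)]

/-- stages `(stride, mask)` of the network of letter 3 -/
def net3 : List (ℕ × ℕ) := [
  (8, 0x8),
  (4, 0x0),
  (2, 0x0),
  (1, 0x501),
  (2, 0x0),
  (4, 0x4),
  (8, 0xb)]

/-- stages `(stride, mask)` of the network of letter 4 -/
def net4 : List (ℕ × ℕ) := [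
  (8, 0xa),
  (4, 0x0),
  (2, 0x0),
  (1, 0x11),
  (2, 0x300),
  (4, 0x0),
  (8, 0xa)]

/-- the networks of the letters -/
def nets (x : ℕ) : List (ℕ × ℕ) :=
  match x with
  | 0 => net0 | 1 => net1 | 2 => net2 | 3 => net3 | 4 => net4
  | _ => []

set_option maxRecDepth 100000 in
theorem netsOKb : (List.range 5).all (fun x => netOKb 16 (nets x)) = true := by decide +kernel

theorem netsOK (x : ℕ) : NetOK 16 (nets x) := by
  by_cases hx : x < 5
  · have := netsOKb
    rw [List.all_eq_true] at this
    exact netOK_of_check (this x (List.mem_range.mpr hx))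
  · have : nets x = [] := by
      unfold nets
      split <;> first | omega | rfl
    rw [this]; intro st hst; simp at hst

end Cfsg.Agent.Lib.Helper92.PM
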