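import Cfsg.Agent.Lib.Helper92.PM.Lower
import Cfsg.Agent.Lib.Helper92.PM.CertG
import Cfsg.Agent.Lib.Helper92.PM.CertQ

/-!
# The Mathieu group M11 as a presented group: at most 7920 elements (helper92)
-/

set_option autoImplicit false

namespace Cfsg.Agent.Lib.Helper92.PM
open Cfsg.Agent.Lib.Helper92.TCert
open Cfsg.Agent.Lib.Helper92.PresGen

/-- the letters in the group -/
noncomputable def lv (x : ℕ) : PG := PresentedGroup.mk relSet (fl x)

theorem rels_one : ∀ w ∈ rels, evr lv w = 1 := by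
  intro w hw
  have e : evr lv w = PresentedGroup.mk relSet (evr fl w) := evr_map (PresentedGroup.mk relSet) fl w
  rw [e]
  exact PresentedGroup.one_of_mem ⟨w, hw, rfl⟩

theorem lv_ge (x : ℕ) (hx : ¬ x < 5) : lv x = 1 := by
  unfold lv fl; rw [dif_neg hx, map_one]

theorem sq_mem : ∀ x < 5, [x, x] ∈ rels := by decide

theorem lv_sq (x : ℕ) (hx : x < 5) : lv x * lv x = 1 := by
  have h : evr lv [x, x] = 1 := rels_one _ (sq_mem x hx)
  simpa [evr] using h

theorem lvR5 : lvR lv 5 = lv := by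
  funext x
  by_cases h : x < 5
  · exact lvR_lt lv 5 x h
  · rw [lvR_ge lv 5 x h, lv_ge x h]

theorem lv_ic (x : ℕ) (hx : x < 8) : lv (ic x) = (lv x)⁻¹ := by
  have := lvR_ic lv 5 (by norm_num) lv_sq x hx
  rwa [lvR5] at this

theorem cell_sub : ∀ w ∈ cellRels, w ∈ rels := by decide

theorem cell_rel : ∀ w ∈ cellRels, evr lv w = 1 := fun w hw => rels_one w (cell_sub w hw)

set_option maxRecDepth 100000 in
theorem rotG_ok : (List.range G.nR).map (rotWordOf G.rot) = allRotsOf rels := by decide +kernel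

/-- the subgroup generated by the first four letters -/
noncomputable def Lsub : Subgroup PG := subL lv

theorem hypG : Hyp Lsub lv G.row G.rot 8 G.nR 4 G.nN where
  hN := by decide
  hrow := fun u h => rowOf_ge G.trie G.nN u h
  hdp0 := G.dp0
  hrot := rot_one_of lv G.rot rels G.nR rels_one rotG_ok
  hsub := fun x hx => Subgroup.subset_closure ⟨x, hx, lvR_lt lv 4 x hx⟩
  hic := lv_ic
  hS := fun u hu x hx => (chkNode_spec G.row G.rot 8 G.nR 4 u (G.chk_nodes u hu)).2 x hx
  hQ := fun u hu => (chkNode_spec G.row G.rot 8 G.nR 4 u (G.chk_nodes u hu)).1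

theorem lv_gen : Subgroup.closure (lv '' {x | x < 5}) = ⊤ := by
  rw [eq_top_iff, ← PresentedGroup.closure_range_of]
  apply Subgroup.closure_mono
  rintro _ ⟨i, rfl⟩
  refine ⟨i.val, i.isLt, ?_⟩
  show PresentedGroup.mk relSet (fl i.val) = PresentedGroup.of i
  unfold fl; rw [dif_pos i.isLt]; rfl

/-- the presented group is finite of order at most 7920 -/
theorem card_PG_le : Finite PG ∧ Nat.card PG ≤ 7920 := by
  obtain ⟨hf, hc⟩ := card_quotient_le hypG G.nC 5 1048575 (by decide) (by decide) (by norm_num) lv_gen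
    (fun c hc x hx => chkFinG_spec G.row 8 G.nC 1048575 5 c (G.chk_fin c hc) x hx)
  have hc' : Nat.card (PG ⧸ Lsub) ≤ 12 := hc
  obtain ⟨hLf, hLc⟩ := card_subL lv cell_rel
  have hLc' : Nat.card Lsub ≤ 660 := hLc
  have hmul := Subgroup.card_eq_card_quotient_mul_card_subgroup Lsub
  have hpos1 : 0 < Nat.card (PG ⧸ Lsub) := Nat.card_pos
  have hpos2 : 0 < Nat.card Lsub := by
    haveI : Finite Lsub := hLf
    exact Nat.card_pos
  have hne : Nat.card PG ≠ 0 := by rw [hmul]; positivity
  refine ⟨Nat.finite_of_card_ne_zero hne, ?_⟩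
  rw [hmul]
  calc Nat.card (PG ⧸ Lsub) * Nat.card Lsub ≤ 12 * 660 := Nat.mul_le_mul hc' hLc'
    _ = 7920 := by norm_num

/-! ### the normal closure of an element of order 11 -/

/-- the element of order 11 -/
noncomputable def g0 : PG := evr lv g0w

/-- relators of the quotient by the normal closure of `g0` -/
def relsQ : List (List ℕ) := rels ++ [g0w]

set_option maxRecDepth 100000 in
theorem rotQ_ok : (List.range Q.nR).map (rotWordOf Q.rot) = allRotsOf relsQ := by decide +kernel

/-- letters in the quotient -/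
noncomputable def lvQ (x : ℕ) : PG ⧸ Subgroup.normalClosure {g0} :=
  QuotientGroup.mk' (Subgroup.normalClosure {g0}) (lv x)

theorem relsQ_one : ∀ w ∈ relsQ, evr lvQ w = 1 := by
  intro w hw
  have e : evr lvQ w = QuotientGroup.mk' (Subgroup.normalClosure {g0}) (evr lv w) :=
    evr_map (QuotientGroup.mk' (Subgroup.normalClosure {g0})) lv w
  rw [e]
  unfold relsQ at hw
  rw [List.mem_append] at hw
  rcases hw with hw | hw
  · rw [rels_one w hw, map_one]
  · rw [List.mem_singleton] at hw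
    rw [hw]
    exact (QuotientGroup.eq_one_iff _).mpr (Subgroup.subset_normalClosure (Set.mem_singleton _))

theorem hypQ : Hyp (⊥ : Subgroup (PG ⧸ Subgroup.normalClosure {g0})) lvQ Q.row Q.rot 8 Q.nR 0 Q.nN where
  hN := by decide
  hrow := fun u h => rowOf_ge Q.trie Q.nN u h
  hdp0 := Q.dp0
  hrot := rot_one_of lvQ Q.rot relsQ Q.nR relsQ_one rotQ_ok
  hsub := fun x hx => absurd hx (by omega)
  hic := fun x hx => by
    show QuotientGroup.mk' _ (lv (ic x)) = (QuotientGroup.mk' _ (lv x))⁻¹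
    rw [lv_ic x hx, map_inv]
  hS := fun u hu x hx => (chkNode_spec Q.row Q.rot 8 Q.nR 0 u (Q.chk_nodes u hu)).2 x hx
  hQ := fun u hu => (chkNode_spec Q.row Q.rot 8 Q.nR 0 u (Q.chk_nodes u hu)).1

theorem lvQ_gen : Subgroup.closure (lvQ '' {x | x < 5}) = ⊤ := by
  have h1 : lvQ '' {x | x < 5} = (QuotientGroup.mk' (Subgroup.normalClosure {g0})) '' (lv '' {x | x < 5}) := by
    rw [Set.image_image]; rfl
  rw [h1, ← MonoidHom.map_closure, lv_gen]
  exact Subgroup.map_top_of_surjective _ (QuotientGroup.mk'_surjective _)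

/-- the normal closure of `g0` is the whole group -/
theorem normalClosure_g0 : Subgroup.normalClosure {g0} = (⊤ : Subgroup PG) := by
  obtain ⟨hf, hc⟩ := card_quotient_le hypQ Q.nC 5 1048575 (by decide) (by decide) (by norm_num) lvQ_gen
    (fun c hc x hx => chkFinG_spec Q.row 8 Q.nC 1048575 5 c (Q.chk_fin c hc) x hx)
  have hc1 : Nat.card ((PG ⧸ Subgroup.normalClosure {g0}) ⧸ (⊥ : Subgroup (PG ⧸ Subgroup.normalClosure {g0}))) ≤ 1 := hc
  have e : ((PG ⧸ Subgroup.normalClosure {g0}) ⧸ (⊥ : Subgroup (PG ⧸ Subgroup.normalClosure {g0}))) ≃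
      (PG ⧸ Subgroup.normalClosure {g0}) := (QuotientGroup.quotientBot).toEquiv
  have hfin : Finite (PG ⧸ Subgroup.normalClosure {g0}) := Finite.of_equiv _ e
  rw [Nat.card_congr e] at hc1
  have hsub : Subsingleton (PG ⧸ Subgroup.normalClosure {g0}) :=
    (Finite.card_le_one_iff_subsingleton).mp hc1
  exact QuotientGroup.subgroup_eq_top_of_subsingleton _ hsub

end Cfsg.Agent.Lib.Helper92.PM
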